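import Groth.Agent.H4DR.Ext.Devissage
import Groth.Agent.H4DR.RG.CechH0
import Groth.Agent.H4DR.Hom.HLinear

/-!
# Morphisms out of a projective module in degree `0`
-/

set_option autoImplicit false
set_option linter.style.haveILetI false

universe u

open CategoryTheory CategoryTheory.Limits Pretriangulated
open Groth.Agent.H4DR.DComplete (hQ hQ_naturality e0)
open Groth.Agent.H4DR.RHom (cls exists_cls homologyMap_cls)

attribute [local instance] HasDerivedCategory.standard

namespace Groth.Agent.H4DR.Ext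

variable {A : Type u} [CommRing A]

lemma hom_eq_zero_of_projective (F : ModuleCat.{u} A) [Projective F] {L : Dual.D A}
    (hL : ∀ i, 0 ≤ i → Subsingleton (Dual.HD A L i)) (f : Dual.inD A F ⟶ L) : f = 0 := by
  haveI : DerivedCategory.IsLE L (-1) := (DerivedCategory.isLE_iff L (-1)).2 fun i hi =>
    ModuleCat.isZero_of_iff_subsingleton.2 (hL i (by omega))
  obtain ⟨L', hL', ⟨e'⟩⟩ := DerivedCategory.exists_iso_Q_obj_of_isLE L (-1)
  haveI := hL'
  let P : DRing.Cx A := RHom.sgl0 F
  haveI : ∀ n, Projective (P.X n) := fun n => by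
    by_cases hn : n = 0
    · subst hn
      exact Projective.of_iso (HomologicalComplex.singleObjXSelf (ComplexShape.up ℤ) 0 F).symm inferInstance
    · exact (HomologicalComplex.isZero_single_obj_X (ComplexShape.up ℤ) 0 F n hn).projective
  haveI : CochainComplex.IsStrictlyLE P 0 := (CochainComplex.isStrictlyLE_iff _ _).2
    fun n hn => HomologicalComplex.isZero_single_obj_X (ComplexShape.up ℤ) 0 F n (by omega)
  haveI := CochainComplex.isKProjective_of_projective P 0
  let eF := (DerivedCategory.singleFunctorIsoCompQ (ModuleCat.{u} A) 0).app F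
  obtain ⟨g, hg⟩ := H16Derived.ProjLift.Q_map_surjective P L' (eF.inv ≫ f ≫ e'.hom)
  have h0 : g = 0 := HomologicalComplex.hom_ext _ _ fun n => by
    by_cases hn : n = 0
    · exact (L'.isZero_of_isStrictlyLE (-1) n (by omega)).eq_of_tgt _ _
    · exact (HomologicalComplex.isZero_single_obj_X (ComplexShape.up ℤ) 0 F n hn).eq_of_src _ _
  rw [h0, Functor.map_zero] at hg
  exact (cancel_epi eF.inv).1 ((cancel_mono e'.hom).1
    (((Category.assoc _ _ _).trans hg.symm).trans (by simp)))

theorem eq_zero_of_hm_eq_zero (F : ModuleCat.{u} A) [Projective F] {K : Dual.D A} (f : Dual.inD A F ⟶ K)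
    (hf : (PCoh.H A 0).map f = 0) : f = 0 := by
  let T := (DerivedCategory.TStructure.t.triangleLTGE 0).obj K
  have hT : T ∈ distTriang _ := DerivedCategory.TStructure.t.triangleLTGE_distinguished 0 K
  haveI : DerivedCategory.IsGE T.obj₃ 0 := inferInstanceAs (DerivedCategory.TStructure.t.IsGE _ 0)
  haveI : DerivedCategory.IsLE T.obj₁ (-1) :=
    DerivedCategory.TStructure.t.isLE_truncLT_obj K 0 (-1) (by omega)
  have h2 : f ≫ T.mor₂ = 0 := Hom.eq_zero_of_HD 0
    (fun i hi => PCoh.subsingleton_HD_inD F i (by omega))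
    (fun i hi => ModuleCat.subsingleton_of_isZero (DerivedCategory.isZero_of_isGE T.obj₃ 0 i hi)) _
    ((Functor.map_comp _ _ _).trans ((congrArg (· ≫ _) hf).trans zero_comp))
  obtain ⟨g, hg⟩ := T.coyoneda_exact₂ hT f h2
  rw [hom_eq_zero_of_projective F
    (fun i hi => ModuleCat.subsingleton_of_isZero (DerivedCategory.isZero_of_isLE T.obj₁ (-1) i (by omega))) g,
    zero_comp] at hg
  exact hg

lemma one_mem_cycles (M : ModuleCat.{u} A) (s : M) :
    (((Hom.sgl 0 M).d 0 (0 + 1)).hom ((HomologicalComplex.singleObjXSelf (ComplexShape.up ℤ) 0 M).inv.hom s)) = 0 :=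
  @Subsingleton.elim _ (RG.subsingleton_single M (0 + 1) (by norm_num)) _ _

/-- Evaluation at `1`. -/
noncomputable def evalOne (K : Dual.D A) : (Dual.inD A A ⟶ K) →ₗ[A] Dual.HD A K 0 where
  toFun f := PCoh.hm 0 f ((e0 (ModuleCat.of A A)).symm (1 : A))
  map_add' f g := LinearMap.congr_fun (congrArg ModuleCat.Hom.hom (Functor.map_add (F := PCoh.H A 0) (f := f) (g := g))) _
  map_smul' a f := LinearMap.congr_fun (congrArg ModuleCat.Hom.hom (Hom.H_map_smul a f 0)) _

theorem bijective_evalOne (K : Dual.D A) : Function.Bijective (evalOne K) := by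
  refine ⟨(injective_iff_map_eq_zero _).2 fun f hf => eq_zero_of_hm_eq_zero (ModuleCat.of A A) f ?_, fun h => ?_⟩
  · refine ModuleCat.hom_ext (LinearMap.ext fun (y : Dual.HD A (Dual.inD A A) 0) => ?_)
    obtain ⟨a, rfl⟩ : ∃ a : A, (e0 (ModuleCat.of A A)).symm a = y := (e0 (ModuleCat.of A A)).symm.surjective y
    show PCoh.hm 0 f ((e0 (ModuleCat.of A A)).symm a) = 0
    rw [show a = a • (1 : A) from (mul_one a).symm, map_smul, map_smul]
    exact (congrArg (a • ·) hf).trans (smul_zero a)
  · let L := DerivedCategory.Q.objPreimage K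
    let eK : DRing.toD L ≅ K := DerivedCategory.Q.objObjPreimageIso K
    let M := ModuleCat.of A A
    obtain ⟨z, hz, hzy⟩ := exists_cls L 0 (hQ L 0 ((PCoh.hEquiv 0 eK).symm h))
    let g : Hom.sgl 0 M ⟶ L := HomologicalComplex.mkHomFromSingle (ModuleCat.ofHom (LinearMap.toSpanSingleton A (L.X 0) z))
      fun j (hj : (0 : ℤ) + 1 = j) => by
        subst hj
        exact ModuleCat.hom_ext (LinearMap.ext_ring ((congrArg (L.d 0 (0 + 1)).hom (one_smul A z)).trans hz))
    let eF := (DerivedCategory.singleFunctorIsoCompQ (ModuleCat.{u} A) 0).app M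
    refine ⟨eF.hom ≫ DerivedCategory.Q.map g ≫ eK.hom, ?_⟩
    have he : PCoh.hm 0 eF.hom ((e0 M).symm (1 : A)) = (e0 M).symm (1 : A) := by
      show PCoh.hm 0 (((DerivedCategory.singleFunctorIsoCompQ (ModuleCat.{u} A) 0).hom.app M)) _ = _
      simp [DerivedCategory.singleFunctorIsoCompQ]
      exact congr($(CategoryTheory.Functor.map_id (PCoh.H A 0) _).hom ((e0 M).symm (1 : A)))
    show PCoh.hm 0 (eF.hom ≫ DerivedCategory.Q.map g ≫ eK.hom) _ = h
    refine (PCoh.hm_comp_apply 0 _ _ _).trans ((congrArg (fun t => PCoh.hm 0 (DerivedCategory.Q.map g ≫ eK.hom) t) he).trans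
      ((PCoh.hm_comp_apply 0 _ _ _).trans ?_))
    refine (congrArg (PCoh.hEquiv 0 eK) (?_ : _ = (PCoh.hEquiv 0 eK).symm h)).trans ((PCoh.hEquiv 0 eK).apply_symm_apply h)
    refine (hQ L 0).injective ?_
    refine (hQ_naturality g 0 _).trans ((congrArg (fun t => (HomologicalComplex.homologyMap g 0).hom t)
      (RG.hQ_e0_symm M 1 (one_mem_cycles M 1))).trans ?_)
    have hgz : (g.f 0).hom ((HomologicalComplex.singleObjXSelf (ComplexShape.up ℤ) 0 M).inv.hom (1 : A)) = z := by
      rw [show g.f 0 = (HomologicalComplex.singleObjXSelf (ComplexShape.up ℤ) 0 M).hom ≫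
        ModuleCat.ofHom (LinearMap.toSpanSingleton A (L.X 0) z) from HomologicalComplex.mkHomFromSingle_f _ _]
      refine Eq.trans (congrArg (fun t : A => t • z) ?_) (one_smul A z)
      exact congr($((HomologicalComplex.singleObjXSelf (ComplexShape.up ℤ) 0 M).inv_hom_id).hom (1 : A))
    rw [homologyMap_cls g 0 _ _ (by rw [hgz]; exact hz)]
    exact (RG.cls_congr _ 0 hgz _ hz).trans hzy

/-- `Hom(A[0], K⟦i⟧) = H^i(K)`. -/
noncomputable def evalEquiv (K : Dual.D A) (i : ℤ) : Ex (Dual.inD A A) K i ≃ₗ[A] Dual.HD A K i :=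
  (LinearEquiv.ofBijective (evalOne (K⟦i⟧)) (bijective_evalOne _)).trans (PCoh.hShift K i 0 i (add_zero i))

end Groth.Agent.H4DR.Ext
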