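import Groth.Agent.H4DR.Ext.Finite
import Mathlib.RingTheory.Ideal.AssociatedPrime.Finiteness
import Mathlib.RingTheory.LocalRing.Module

/-!
# Dévissage over a Noetherian local ring from the residue field
-/

set_option autoImplicit false
set_option linter.style.haveILetI false

universe u

open CategoryTheory CategoryTheory.Limits Pretriangulated

attribute [local instance] HasDerivedCategory.standard

namespace Groth.Agent.H4DR.Ext

variable {A : Type u} [CommRing A]

/-- The maps of `0 → A/(J:c) → A/J → A/(J+c) → 0`. -/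
theorem colon_ses (J : Ideal A) (c : A) :
    ∃ (f : (A ⧸ Submodule.colon J {c}) →ₗ[A] (A ⧸ J)) (g : (A ⧸ J) →ₗ[A] (A ⧸ (J ⊔ Ideal.span {c}))),
      Function.Injective f ∧ Function.Surjective g ∧ Function.Exact f g := by
  let f : (A ⧸ Submodule.colon J {c}) →ₗ[A] (A ⧸ J) :=
    Submodule.mapQ _ _ (LinearMap.mulLeft A c) fun y hy => by
      rw [Submodule.mem_comap, LinearMap.mulLeft_apply, mul_comm]
      exact Submodule.mem_colon_singleton.1 hy
  refine ⟨f, Submodule.factor le_sup_left, (injective_iff_map_eq_zero _).2 fun y hy => ?_,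
    Submodule.factor_surjective _, fun y => ?_⟩
  · obtain ⟨y, rfl⟩ := Submodule.Quotient.mk_surjective _ y
    refine (Submodule.Quotient.mk_eq_zero _).2 (Submodule.mem_colon_singleton.2 ?_)
    rw [smul_eq_mul, mul_comm]
    exact (Submodule.Quotient.mk_eq_zero _).1 hy
  · obtain ⟨y, rfl⟩ := Submodule.Quotient.mk_surjective J y
    show Submodule.Quotient.mk y = 0 ↔ _
    rw [Submodule.Quotient.mk_eq_zero, Submodule.mem_sup]
    constructor
    · rintro ⟨u, hu, v, hv', rfl⟩
      obtain ⟨r, rfl⟩ := Ideal.mem_span_singleton'.1 hv'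
      exact ⟨Submodule.Quotient.mk r, (Submodule.Quotient.eq J).2 (by
        rw [LinearMap.mulLeft_apply, mul_comm c r, sub_add_cancel_right]; exact neg_mem hu)⟩
    · rintro ⟨z, hz⟩
      obtain ⟨z, rfl⟩ := Submodule.Quotient.mk_surjective _ z
      exact ⟨y - c * z, by simpa using neg_mem ((Submodule.Quotient.eq J).1 hz), c * z,
        Ideal.mem_span_singleton'.2 ⟨z, mul_comm z c⟩, sub_add_cancel y _⟩

/-- The maps of `0 → A/p → A/p → A/(p+x) → 0`. -/
theorem prime_ses (p : Ideal A) [p.IsPrime] {x : A} (hxp : x ∉ p) :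
    ∃ g : (A ⧸ p) →ₗ[A] (A ⧸ (p ⊔ Ideal.span {x})),
      Function.Injective (x • LinearMap.id : (A ⧸ p) →ₗ[A] (A ⧸ p)) ∧ Function.Surjective g ∧
        Function.Exact (x • LinearMap.id : (A ⧸ p) →ₗ[A] (A ⧸ p)) g := by
  refine ⟨Submodule.factor le_sup_left, (injective_iff_map_eq_zero _).2 fun y hy => ?_,
    Submodule.factor_surjective _, fun y => ?_⟩
  · obtain ⟨y, rfl⟩ := Submodule.Quotient.mk_surjective p y
    have : x * y ∈ p := (Submodule.Quotient.mk_eq_zero p).1 hy
    exact (Submodule.Quotient.mk_eq_zero p).2 ((Ideal.IsPrime.mem_or_mem ‹_› this).resolve_left hxp)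
  · obtain ⟨y, rfl⟩ := Submodule.Quotient.mk_surjective p y
    show Submodule.Quotient.mk y = 0 ↔ _
    rw [Submodule.Quotient.mk_eq_zero, Submodule.mem_sup]
    constructor
    · rintro ⟨u, hu, v, hv', rfl⟩
      obtain ⟨r, rfl⟩ := Ideal.mem_span_singleton'.1 hv'
      exact ⟨Submodule.Quotient.mk r, (Submodule.Quotient.eq p).2 (by
        show x * r - (u + r * x) ∈ p
        rw [mul_comm x r, sub_add_cancel_right]; exact neg_mem hu)⟩
    · rintro ⟨z, hz⟩
      obtain ⟨z, rfl⟩ := Submodule.Quotient.mk_surjective p z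
      exact ⟨y - x * z, by simpa using neg_mem ((Submodule.Quotient.eq p).1 hz), x * z,
        Ideal.mem_span_singleton'.2 ⟨z, mul_comm z x⟩, sub_add_cancel y _⟩

variable [IsNoetherianRing A] [IsLocalRing A]

/-- Induction on cyclic modules from the residue field. -/
theorem quotient_induction (P : Ideal A → Prop) (htop : P ⊤) (hm : P (IsLocalRing.maximalIdeal A))
    (hext : ∀ (J : Ideal A) (c : A), P (Submodule.colon J {c}) → P (J ⊔ Ideal.span {c}) → P J)
    (hprime : ∀ (p : Ideal A) [p.IsPrime] (x : A), x ∈ IsLocalRing.maximalIdeal A → x ∉ p →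
      P (p ⊔ Ideal.span {x}) → P p) (J : Ideal A) : P J := by
  induction J using (inferInstance : WellFoundedGT (Ideal A)).induction with
  | _ J ih =>
    by_cases htop' : J = ⊤
    · exact htop' ▸ htop
    by_cases hp : J.IsPrime
    · by_cases hm' : J = IsLocalRing.maximalIdeal A
      · exact hm' ▸ hm
      obtain ⟨x, hx, hxJ⟩ := SetLike.exists_of_lt ((IsLocalRing.le_maximalIdeal htop').lt_of_ne hm')
      exact hprime J x hx hxJ (ih _ (left_lt_sup.2 fun h => hxJ (h (Ideal.mem_span_singleton_self x))))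
    · obtain ⟨c, hc, d, hd, hcd⟩ : ∃ c, c ∉ J ∧ ∃ d, d ∉ J ∧ c * d ∈ J := by
        simp only [Ideal.isPrime_iff, not_and, not_forall, not_or] at hp
        obtain ⟨c, d, h, hc, hd⟩ := hp htop'
        exact ⟨c, hc, d, hd, h⟩
      refine hext J c (ih _ ?_) (ih _ (left_lt_sup.2 fun h => hc (h (Ideal.mem_span_singleton_self c))))
      exact SetLike.lt_iff_le_and_exists.2 ⟨fun y hy => Submodule.mem_colon_singleton.2 (J.mul_mem_right c hy),
        d, Submodule.mem_colon_singleton.2 (by rw [smul_eq_mul, mul_comm]; exact hcd), hd⟩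

variable {K : Dual.D A} (hfin : ∀ i : ℤ, Module.Finite A (Dual.HD A K i)) {a : ℤ}
  (hlow : ∀ i : ℤ, i < a → Subsingleton (Dual.HD A K i))
include hfin hlow

omit [IsNoetherianRing A] [IsLocalRing A] hfin in
theorem subsingleton_ex_low (M : Type u) [AddCommGroup M] [Module A M] (i : ℤ) (hi : i < a) :
    Subsingleton (Ex (Dual.inD A M) K i) :=
  subsingleton_of_forall_eq 0 fun f => Hom.eq_zero_of_lt 0 (a - i) (by omega)
    (fun j hj => PCoh.subsingleton_HD_inD (ModuleCat.of A M) j (by omega))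
    (fun j hj => haveI := hlow (i + j) (by omega)
      (PCoh.hShift K i j (i + j) rfl).injective.subsingleton) f

/-- Vanishing of `Ext^i(A/J, K)` in a range closed upwards, from the residue field. -/
theorem subsingleton_ex_quotient (S : ℤ → Prop) (hS : ∀ i, S i → S (i + 1))
    (hk : ∀ i, S i → Subsingleton (Ex (Dual.inD A (A ⧸ IsLocalRing.maximalIdeal A)) K i)) (J : Ideal A) :
    ∀ i, S i → Subsingleton (Ex (Dual.inD A (A ⧸ J)) K i) := by
  refine quotient_induction (fun J => ∀ i, S i → Subsingleton (Ex (Dual.inD A (A ⧸ J)) K i)) ?_ hk ?_ ?_ J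
  · intro i _
    haveI : Subsingleton (A ⧸ (⊤ : Ideal A)) := Submodule.Quotient.subsingleton_iff.2 rfl
    exact subsingleton_ex_of_subsingleton _ _
  · intro J c h1 h2 i hi
    obtain ⟨f, g, hf, hg, hfg⟩ := colon_ses J c
    obtain ⟨δ, hT⟩ := exists_triangle f g hf hg hfg
    exact subsingleton_pre₂ _ hT (h1 i hi) (h2 i hi)
  · intro p _ x hx hxp h i hi
    obtain ⟨g, hf, hg, hfg⟩ := prime_ses p hxp
    obtain ⟨δ, hT⟩ := exists_triangle _ g hf hg hfg
    haveI : Module.Finite A (Ex (Dual.inD A (A ⧸ p)) K i) :=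
      finite_ex_module_of_low hfin (fun N _ _ _ h => subsingleton_ex_low hlow N _ h)
        ((i - a).toNat + 1) (A ⧸ p) i (by omega)
    have hs := surjective_pre₁ _ hT (W := K) rfl (h (i + 1) (hS i hi))
    have h0 : (⊤ : Submodule A (Ex (Dual.inD A (A ⧸ p)) K i)) = ⊥ := by
      refine Submodule.eq_bot_of_le_smul_of_le_jacobson_bot (IsLocalRing.maximalIdeal A) _ Module.Finite.fg_top
        (fun t _ => ?_) (IsLocalRing.maximalIdeal_le_jacobson ⊥)
      obtain ⟨(s : Ex (Dual.inD A (A ⧸ p)) K i), rfl⟩ := hs t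
      show inM (x • LinearMap.id) ≫ s ∈ _
      rw [show inM (L := ModuleCat.of A (A ⧸ p)) (M := ModuleCat.of A (A ⧸ p)) (x • LinearMap.id) =
        x • 𝟙 _ from inM_smul_id (ModuleCat.of A (A ⧸ p)) x]
      exact ((Linear.smul_comp _ _ _ _ _ _).trans (congrArg (x • ·) (Category.id_comp s))) ▸
        Submodule.smul_mem_smul hx Submodule.mem_top
    exact Submodule.subsingleton_iff A |>.1 (subsingleton_iff_bot_eq_top.1 h0.symm)

end Groth.Agent.H4DR.Ext
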