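import Groth.Agent.H4DR.Ext.Basic
import Groth.Agent.H4DR.RHom.Classes
import Groth.Agent.H4DR.RHom.Single
import Groth.Agent.H16Derived.KInjRes.Products
import Mathlib.Algebra.Homology.Factorizations.CM5a
import Mathlib.Algebra.Module.Injective

/-!
# Injective amplitude
-/

set_option autoImplicit false
set_option linter.style.haveILetI false

universe u

open CategoryTheory CategoryTheory.Limits Pretriangulated

attribute [local instance] HasDerivedCategory.standard

namespace Groth.Agent.H4DR.Ext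

variable {A : Type u} [CommRing A]

lemma Q_map_surjective_of_kinj (P J : DRing.Cx A) [CochainComplex.IsKInjective J]
    (φ : DRing.toD P ⟶ DRing.toD J) : ∃ g : P ⟶ J, DerivedCategory.Q.map g = φ := by
  obtain ⟨u, hu⟩ := (CochainComplex.IsKInjective.Qh_map_bijective
    ((HomotopyCategory.quotient _ _).obj P) J).2
    ((DerivedCategory.quotientCompQhIso (ModuleCat.{u} A)).hom.app P ≫ φ ≫
      (DerivedCategory.quotientCompQhIso (ModuleCat.{u} A)).inv.app J)
  obtain ⟨g, rfl⟩ := (HomotopyCategory.quotient _ _).map_surjective u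
  refine ⟨g, ?_⟩
  have h := (DerivedCategory.quotientCompQhIso (ModuleCat.{u} A)).hom.naturality g
  rw [Functor.comp_map, hu, Category.assoc, Category.assoc, Iso.inv_hom_id_app,
    Category.comp_id] at h
  exact ((cancel_epi _).1 h).symm

lemma isKInjective_of_vanishesOutside {E : DRing.Cx A} {a b : ℤ} (h : DRing.VanishesOutside E a b)
    (hE : DRing.TermwiseInjective E) : CochainComplex.IsKInjective E := by
  haveI : ∀ i, Injective (E.X i) := fun i =>
    haveI := hE i
    Module.injective_object_of_injective_module A (E.X i)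
  haveI : CochainComplex.IsStrictlyGE E a :=
    (CochainComplex.isStrictlyGE_iff _ _).2 fun i hi => h i (Or.inl hi)
  exact CochainComplex.isKInjective_of_injective E a

lemma subsingleton_of_disjoint {P E : DRing.Cx A} [CochainComplex.IsKInjective E] {n : ℤ}
    (hz : ∀ j : ℤ, IsZero (P.X j) ∨ IsZero (E.X (j + n))) :
    Subsingleton (DRing.toD P ⟶ (DRing.toD E)⟦n⟧) := by
  haveI : CochainComplex.IsKInjective (E⟦n⟧) := inferInstance
  have hs : Subsingleton (DRing.toD P ⟶ DRing.toD (E⟦n⟧)) := subsingleton_of_forall_eq 0 fun f => by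
    obtain ⟨g, rfl⟩ := Q_map_surjective_of_kinj P (E⟦n⟧) f
    rw [show g = 0 from HomologicalComplex.hom_ext _ _ fun j => (hz j).elim (fun h => h.eq_of_src _ _)
      (fun h => h.eq_of_tgt _ _), Functor.map_zero]
  exact @Function.Injective.subsingleton _ (DRing.toD P ⟶ DRing.toD (E⟦n⟧)) _
    (postIso (A := A) (DRing.toD P) ((DerivedCategory.Q.commShiftIso n).app E)).symm.injective hs

theorem subsingleton_ex_of_LE {K L : Dual.D A} {E : DRing.Cx A} {a b c i : ℤ}
    (hK : ∀ j, c < j → Subsingleton (Dual.HD A K j)) (hv : DRing.VanishesOutside E a b)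
    (hE : DRing.TermwiseInjective E) (e : DRing.toD E ≅ L) (hi : c + i < a) : Subsingleton (Ex K L i) := by
  obtain ⟨P, hP, ⟨eP⟩⟩ := TorAmp.exists_projRep hK
  haveI := isKInjective_of_vanishesOutside hv hE
  haveI := subsingleton_of_disjoint (P := P) (E := E) (n := i) fun j =>
    if h : c < j then Or.inl (hP.above j h) else Or.inr (hv _ (Or.inl (by omega)))
  exact ((preIso eP _).trans (postIso _ ((shiftFunctor (Dual.D A) i).mapIso e.symm))).injective.subsingleton

theorem subsingleton_ex_of_GE {K L : Dual.D A} {E : DRing.Cx A} {a b c i : ℤ}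
    (hK : ∀ j, j < c → Subsingleton (Dual.HD A K j)) (hv : DRing.VanishesOutside E a b)
    (hE : DRing.TermwiseInjective E) (e : DRing.toD E ≅ L) (hi : b < c + i) : Subsingleton (Ex K L i) := by
  haveI : DerivedCategory.IsGE K c := (DerivedCategory.isGE_iff K c).2 fun j hj =>
    ModuleCat.isZero_of_iff_subsingleton.2 (hK j hj)
  obtain ⟨P, hP, ⟨eP⟩⟩ := DerivedCategory.exists_iso_Q_obj_of_isGE K c
  haveI := isKInjective_of_vanishesOutside hv hE
  haveI := subsingleton_of_disjoint (P := P) (E := E) (n := i) fun j =>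
    if h : j < c then Or.inl (P.isZero_of_isStrictlyGE c j h) else Or.inr (hv _ (Or.inr (by omega)))
  exact ((preIso eP.symm _).trans (postIso _ ((shiftFunctor (Dual.D A) i).mapIso e.symm))).injective.subsingleton

theorem subsingleton_inD_of_injAmp {K : Dual.D A} {a b : ℤ} (h : DRing.HasInjAmplitudeIn A a b K)
    (N : Type u) [AddCommGroup N] [Module A N] {i : ℤ} (hi : i < a ∨ b < i) :
    Subsingleton (Ex (Dual.inD A N) K i) := by
  obtain ⟨E, hv, hE, ⟨e⟩⟩ := h
  rcases hi with hi | hi
  · exact subsingleton_ex_of_LE (c := 0)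
      (fun j hj => PCoh.subsingleton_HD_inD (ModuleCat.of A N) j (by omega)) hv hE e (by omega)
  · exact subsingleton_ex_of_GE (c := 0)
      (fun j hj => PCoh.subsingleton_HD_inD (ModuleCat.of A N) j (by omega)) hv hE e (by omega)

/-- A cocycle `N → E^i` is a coboundary when `Hom(N, E[i]) = 0`. -/
theorem exists_lift_of_subsingleton {E : DRing.Cx A} [CochainComplex.IsKInjective E] (N : ModuleCat.{u} A)
    (i : ℤ) (h : Subsingleton (DRing.toD (RHom.sgl0 N) ⟶ (DRing.toD E)⟦i⟧)) (φ : N →ₗ[A] E.X i)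
    (hφ : (E.d i (i + 1)).hom ∘ₗ φ = 0) : ∃ k : N →ₗ[A] E.X (i - 1), (E.d (i - 1) i).hom ∘ₗ k = φ := by
  have h1 := (RHom.exactAt_homCx_of_subsingleton (RHom.sgl0 N) E i h).isZero_homology
  have h2 : (DComplete.coind N E).ExactAt i := (HomologicalComplex.exactAt_iff_isZero_homology _ _).2
    (h1.of_iso ((HomologicalComplex.homologyFunctor _ _ i).mapIso (asIso (RHom.evalSingle N E))).symm)
  rw [HomologicalComplex.exactAt_iff' _ (i - 1) i (i + 1) (by simp) (by simp), ShortComplex.moduleCat_exact_iff] at h2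
  exact h2 φ hφ

lemma subsingleton_HD_of_inD {E : DRing.Cx A} [CochainComplex.IsKInjective E] {K : Dual.D A}
    (e : DRing.toD E ≅ K) (i : ℤ) (h : Subsingleton (Ex (Dual.inD A A) K i)) :
    Subsingleton (Dual.HD A K i) := by
  have hx : E.ExactAt i := by
    rw [HomologicalComplex.exactAt_iff' _ (i - 1) i (i + 1) (by simp) (by simp), ShortComplex.moduleCat_exact_iff]
    intro x hx
    have h' : Subsingleton (DRing.toD (RHom.sgl0 (ModuleCat.of A A)) ⟶ (DRing.toD E)⟦i⟧) :=
      ((preIso ((DerivedCategory.singleFunctorIsoCompQ (ModuleCat.{u} A) 0).app (ModuleCat.of A A)) _).trans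
        (postIso _ ((shiftFunctor (Dual.D A) i).mapIso e))).injective.subsingleton
    obtain ⟨k, hk⟩ := exists_lift_of_subsingleton (ModuleCat.of A A) i h' (LinearMap.toSpanSingleton A (E.X i) x)
      (LinearMap.ext_ring ((congrArg (E.d i (i + 1)).hom (one_smul A x)).trans hx))
    exact ⟨k 1, (LinearMap.congr_fun hk 1).trans (one_smul A x)⟩
  exact ModuleCat.subsingleton_of_isZero (hx.isZero_homology.of_iso
    (((DerivedCategory.homologyFunctor (ModuleCat.{u} A) i).mapIso e.symm) ≪≫
      (DerivedCategory.homologyFunctorFactors (ModuleCat.{u} A) i).app E))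

theorem injAmp_of_vanish (K : Dual.D A) (a b : ℤ)
    (h : ∀ (I : Ideal A) (i : ℤ), (i < a ∨ b < i) → Subsingleton (Ex (Dual.inD A (A ⧸ I)) K i)) :
    DRing.HasInjAmplitudeIn A a b K := by
  have hA : ∀ i : ℤ, (i < a ∨ b < i) → Subsingleton (Ex (Dual.inD A A) K i) := fun i hi =>
    haveI := h ⊥ i hi
    (preIso ((DerivedCategory.singleFunctor (ModuleCat.{u} A) 0).mapIso
      (Submodule.quotEquivOfEqBot ⊥ rfl : (A ⧸ (⊥ : Ideal A)) ≃ₗ[A] A).toModuleIso) _).injective.subsingleton
  have hH : ∀ i : ℤ, (i < a ∨ b < i) → Subsingleton (Dual.HD A K i) := fun i hi => by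
    obtain ⟨J, hJ, ⟨eJ⟩⟩ := H16Derived.KInjRes.exists_kInjective_iso (A := ModuleCat.{u} A) K
    exact subsingleton_HD_of_inD eJ.symm i (hA i hi)
  haveI : DerivedCategory.IsGE K a := (DerivedCategory.isGE_iff K a).2 fun i hi =>
    ModuleCat.isZero_of_iff_subsingleton.2 (hH i (Or.inl hi))
  obtain ⟨L, hL, ⟨eL⟩⟩ := DerivedCategory.exists_iso_Q_obj_of_isGE K a
  haveI := hL
  obtain ⟨E, j, hj, hinj, hE⟩ := CochainComplex.Plus.modelCategoryQuillen.exists_quasiIso_injective L a
  haveI := hj; haveI := hE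
  haveI := fun n => hinj n
  haveI := CochainComplex.isKInjective_of_injective E a
  let e : DRing.toD E ≅ K := (asIso (DerivedCategory.Q.map j)).symm ≪≫ eL.symm
  have hx : ∀ i, b < i → E.ExactAt i := fun i hi => (HomologicalComplex.exactAt_iff_isZero_homology _ _).2
    ((ModuleCat.isZero_of_iff_subsingleton.2 (hH i (Or.inr hi))).of_iso
      (((DerivedCategory.homologyFunctorFactors (ModuleCat.{u} A) i).app E).symm ≪≫
        (DerivedCategory.homologyFunctor (ModuleCat.{u} A) i).mapIso e))
  haveI : E.IsLE b := (CochainComplex.isLE_iff _ _).2 hx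
  haveI : QuasiIso (E.ιTruncLE b) := (CochainComplex.quasiIso_ιTruncLE_iff E b).2 inferInstance
  have hb : Module.Injective A (E.cycles b) := Module.Baer.injective fun I f => by
    let f' : I →ₗ[A] E.X b := (E.iCycles b).hom ∘ₗ f
    haveI : Module.Injective A (E.X b) := Module.injective_module_of_injective_object A (E.X b)
    obtain ⟨g, hg⟩ := Module.Baer.of_injective (inferInstance : Module.Injective A (E.X b)) I f'
    have hz : ∀ x : I, (E.d b (b + 1)).hom (f' x) = 0 := fun x => congr($(E.iCycles_d b (b + 1)).hom (f x))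
    let φ : (A ⧸ I) →ₗ[A] E.X (b + 1) := Submodule.liftQ I ((E.d b (b + 1)).hom ∘ₗ g) fun x hx => by
      show (E.d b (b + 1)).hom (g x) = 0
      rw [hg x hx]; exact hz ⟨x, hx⟩
    have h' : Subsingleton (DRing.toD (RHom.sgl0 (ModuleCat.of A (A ⧸ I))) ⟶ (DRing.toD E)⟦b + 1⟧) :=
      haveI := h I (b + 1) (Or.inr (by omega))
      ((preIso ((DerivedCategory.singleFunctorIsoCompQ (ModuleCat.{u} A) 0).app (ModuleCat.of A (A ⧸ I))) _).trans
        (postIso _ ((shiftFunctor (Dual.D A) (b + 1)).mapIso e))).injective.subsingleton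
    obtain ⟨k, hk⟩ := exists_lift_of_subsingleton (ModuleCat.of A (A ⧸ I)) (b + 1) h' φ
      (Submodule.linearMap_qext _ (LinearMap.ext fun x => congr($(E.d_comp_d b (b + 1) (b + 1 + 1)).hom (g x))))
    have hb1 : b + 1 - 1 = b := by omega
    let k' : (A ⧸ I) →ₗ[A] E.X b := (E.XIsoOfEq hb1).hom.hom ∘ₗ k
    have hk' : ∀ x, (E.d b (b + 1)).hom (k' x) = φ x := fun x => by
      refine Eq.trans ?_ (LinearMap.congr_fun hk x)
      exact congr($(E.XIsoOfEq_hom_comp_d hb1 (b + 1)).hom (k x))
    let z : A →ₗ[A] E.X b := g - k' ∘ₗ I.mkQ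
    have hdz : ModuleCat.ofHom z ≫ E.d b (b + 1) = 0 := ModuleCat.hom_ext (LinearMap.ext fun x => by
      show (E.d b (b + 1)).hom (g x - k' (I.mkQ x)) = 0
      rw [map_sub, hk']; exact sub_self _)
    refine ⟨(E.liftCycles (ModuleCat.ofHom z) (b + 1) (by simp) hdz).hom, fun x hx => ?_⟩
    apply (ModuleCat.mono_iff_injective (E.iCycles b)).1 inferInstance
    refine (congr($(E.liftCycles_i (ModuleCat.ofHom z) (b + 1) (by simp) hdz).hom x)).trans ?_
    show g x - k' (I.mkQ x) = _
    rw [hg x hx, Submodule.mkQ_apply, (Submodule.Quotient.mk_eq_zero I).2 hx, map_zero, sub_zero]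
    rfl
  refine ⟨E.truncLE b, fun i hi => ?_, fun i => ?_, ⟨asIso (DerivedCategory.Q.map (E.ιTruncLE b)) ≪≫ e⟩⟩
  · rcases lt_trichotomy i b with h' | rfl | h'
    · rcases hi with hi | hi
      · exact (E.isZero_of_isStrictlyGE a i hi).of_iso (E.truncLEXIso b i h')
      · omega
    · have hia : i < a := hi.resolve_right (lt_irrefl i)
      exact (IsZero.of_mono (E.iCycles i) (E.isZero_of_isStrictlyGE a i hia)).of_iso (E.truncLEXIsoCycles i)
    · exact CochainComplex.isZero_of_isStrictlyLE (E.truncLE b) b i h'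
  · rcases lt_trichotomy i b with h' | rfl | h'
    · haveI := Injective.of_iso (E.truncLEXIso b i h').symm (hinj i)
      exact Module.injective_module_of_injective_object A _
    · haveI := Module.injective_object_of_injective_module A (E.cycles i)
      haveI := Injective.of_iso (E.truncLEXIsoCycles i).symm (inferInstance : Injective (E.cycles i))
      exact Module.injective_module_of_injective_object A _
    · haveI := (CochainComplex.isZero_of_isStrictlyLE (E.truncLE b) b i h').injective
      exact Module.injective_module_of_injective_object A _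

theorem injAmp_tfae (K : Dual.D A) (a b : ℤ) :
    [DRing.HasInjAmplitudeIn A a b K,
      ∀ (N : Type u) [AddCommGroup N] [Module A N] (i : ℤ), (i < a ∨ b < i) →
        Subsingleton (DRing.ExtD A (Dual.inD A N) K i),
      ∀ (I : Ideal A) (i : ℤ), (i < a ∨ b < i) → Subsingleton (DRing.ExtD A (Dual.inD A (A ⧸ I)) K i)].TFAE := by
  tfae_have 1 → 2 := fun h N _ _ i hi => subsingleton_inD_of_injAmp h N hi
  tfae_have 2 → 3 := fun h I i hi => h (A ⧸ I) i hi
  tfae_have 3 → 1 := injAmp_of_vanish K a b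
  tfae_finish

end Groth.Agent.H4DR.Ext
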