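import Groth.Agent.H4DR.Ext.Point
import Mathlib.LinearAlgebra.Pi
import Mathlib.RingTheory.Finiteness.Cardinality

/-!
# Finiteness of morphisms into objects of finite injective dimension
-/

set_option autoImplicit false
set_option linter.style.haveILetI false

universe u

open CategoryTheory CategoryTheory.Limits Pretriangulated

attribute [local instance] HasDerivedCategory.standard

namespace Groth.Agent.H4DR.Ext

variable {A : Type u} [CommRing A]

/-- Isomorphic modules. -/
noncomputable def exCongr {M N : Type u} [AddCommGroup M] [Module A M] [AddCommGroup N] [Module A N]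
    (e : M ≃ₗ[A] N) (W : Dual.D A) : (Dual.inD A N ⟶ W) ≃ₗ[A] (Dual.inD A M ⟶ W) :=
  preIso ((DerivedCategory.singleFunctor (ModuleCat.{u} A) 0).mapIso e.toModuleIso) W

lemma inM_eq {M N : Type u} [AddCommGroup M] [Module A M] [AddCommGroup N] [Module A N]
    (e : M ≃ₗ[A] N) : ((DerivedCategory.singleFunctor (ModuleCat.{u} A) 0).mapIso e.toModuleIso).hom =
      inM (L := ModuleCat.of A M) (M := ModuleCat.of A N) e.toLinearMap := rfl

theorem subsingleton_ex_of_subsingleton (M : Type u) [AddCommGroup M] [Module A M] [Subsingleton M]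
    (W : Dual.D A) : Subsingleton (Dual.inD A M ⟶ W) :=
  ⟨fun f g => ((DerivedCategory.singleFunctor (ModuleCat.{u} A) 0).map_isZero
    (ModuleCat.isZero_of_subsingleton (ModuleCat.of A M))).eq_of_src f g⟩

/-- Facts about `τ_{<n} K → K → τ_{≥n} K`. -/
theorem exists_trunc (K : Dual.D A) (n : ℤ) :
    ∃ T : Triangle (Dual.D A), ∃ _ : T ∈ distTriang (Dual.D A), T.obj₂ = K ∧
      (∀ j, n ≤ j → Subsingleton (Dual.HD A T.obj₁ j)) ∧
      (∀ j, j < n → Subsingleton (Dual.HD A T.obj₃ j)) ∧
      (∀ j, j < n → Function.Bijective (PCoh.hm j T.mor₁)) ∧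
      (∀ j, n ≤ j → Function.Bijective (PCoh.hm j T.mor₂)) := by
  let T := (DerivedCategory.TStructure.t.triangleLTGE n).obj K
  have hT : T ∈ distTriang _ := DerivedCategory.TStructure.t.triangleLTGE_distinguished n K
  haveI : DerivedCategory.IsGE T.obj₃ n := inferInstanceAs (DerivedCategory.TStructure.t.IsGE _ n)
  haveI : DerivedCategory.IsLE T.obj₁ (n - 1) :=
    DerivedCategory.TStructure.t.isLE_truncLT_obj K n (n - 1) (by omega)
  have h1 : ∀ j, n ≤ j → Subsingleton (Dual.HD A T.obj₁ j) := fun j hj =>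
    ModuleCat.subsingleton_of_isZero (DerivedCategory.isZero_of_isLE T.obj₁ (n - 1) j (by omega))
  have h3 : ∀ j, j < n → Subsingleton (Dual.HD A T.obj₃ j) := fun j hj =>
    ModuleCat.subsingleton_of_isZero (DerivedCategory.isZero_of_isGE T.obj₃ n j hj)
  exact ⟨T, hT, rfl, h1, h3,
    fun j hj => ⟨PCoh.injective₁_of_subsingleton T hT (j - 1) j (by omega) (h3 _ (by omega)),
      PCoh.surjective₁_of_subsingleton T hT j (h3 j hj)⟩,
    fun j hj => ⟨PCoh.injective₂_of_subsingleton T hT j (h1 j hj),
      PCoh.surjective₂_of_subsingleton T hT j (j + 1) rfl (h1 _ (by omega))⟩⟩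

section Finite

variable [IsNoetherianRing A] {L : Dual.D A} (hL : ∀ i : ℤ, Module.Finite A (Dual.HD A L i))
include hL

theorem finite_ex_free : ∀ (n : ℕ) (i : ℤ), Module.Finite A (Ex (Dual.inD A (Fin n → A)) L i)
  | 0, i => haveI := subsingleton_ex_of_subsingleton (A := A) (Fin 0 → A) (L⟦i⟧); inferInstance
  | n + 1, i => by
    obtain ⟨δ, hT⟩ := exists_triangle (LinearMap.inl A A (Fin n → A)) (LinearMap.snd A A (Fin n → A))
      LinearMap.inl_injective LinearMap.snd_surjective Function.Exact.inl_snd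
    haveI := hL i
    haveI : Module.Finite A (Ex (Dual.inD A A) L i) := Module.Finite.equiv (evalEquiv L i).symm
    haveI : Module.Finite A (Dual.inD A (A × (Fin n → A)) ⟶ L⟦i⟧) := finite_pre₂ _ hT (W := L⟦i⟧) (inferInstanceAs (Module.Finite A (Ex (Dual.inD A A) L i)))
      (finite_ex_free n i)
    exact Module.Finite.equiv (exCongr (Fin.consLinearEquiv A (fun _ : Fin (n + 1) => A)).symm (L⟦i⟧))

theorem finite_ex_module_of_low {a : ℤ}
    (hlow : ∀ (M : Type u) [AddCommGroup M] [Module A M] (i : ℤ), i < a → Subsingleton (Ex (Dual.inD A M) L i)) :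
    ∀ (k : ℕ) (M : Type u) [AddCommGroup M] [Module A M] [Module.Finite A M] (i : ℤ),
    i < a + k → Module.Finite A (Ex (Dual.inD A M) L i)
  | 0, M, _, _, _, i, hi =>
    haveI := hlow M i (by omega)
    inferInstance
  | k + 1, M, _, _, _, i, hi => by
    obtain ⟨n, q, hq⟩ := Module.Finite.exists_fin' A M
    obtain ⟨δ, hT⟩ := exists_triangle (LinearMap.ker q).subtype q (Submodule.subtype_injective _) hq
      (LinearMap.exact_subtype_ker_map q)
    haveI : Module.Finite A (LinearMap.ker q) := Module.Finite.of_fg (IsNoetherian.noetherian _)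
    haveI := finite_ex_module_of_low hlow k (LinearMap.ker q) (i - 1) (by omega)
    exact finite_pre₂ _ (rot_of_distTriang _ hT) (finite_ex_free hL n i)
      (Module.Finite.equiv (shiftSrc (Dual.inD A (LinearMap.ker q)) L 1 (i - 1) i (by omega)))

variable {a b : ℤ} (ha : DRing.HasInjAmplitudeIn A a b L)
include ha

theorem finite_ex_module (k : ℕ) (M : Type u) [AddCommGroup M] [Module A M] [Module.Finite A M] (i : ℤ)
    (hi : i < a + k) : Module.Finite A (Ex (Dual.inD A M) L i) :=
  finite_ex_module_of_low hL (fun N _ _ _ h => subsingleton_inD_of_injAmp ha N (Or.inl h)) k M i hi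

theorem finite_ex_of_bounded {K : Dual.D A} {m m' : ℤ}
    (hb : ∀ j, j < m ∨ m' < j → Subsingleton (Dual.HD A K j))
    (hf : ∀ j, Module.Finite A (Dual.HD A K j)) (i : ℤ) : Module.Finite A (Ex K L i) := by
  refine ind_homology (fun K => ∀ i, Module.Finite A (Ex K L i)) (fun K hK i => ?_)
    (fun e h i => haveI := h i; Module.Finite.equiv (preIso e _).symm)
    (fun T hT h₁ h₃ i => finite_pre₂ T hT (h₁ i) (h₃ i)) (m' + 1 - m).toNat (m := m) (K := K)
    (fun j hj => hb j (by omega)) (fun j i => ?_) i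
  · obtain ⟨E, hv, hE, ⟨e⟩⟩ := ha
    haveI := subsingleton_ex_of_LE (c := a - i - 1) (L := L) (fun j _ => hK j) hv hE e (i := i) (by omega)
    infer_instance
  · haveI := hf j
    haveI := finite_ex_module hL ha ((i + j - a).toNat + 1) (Dual.HD A K j) (i + j) (by omega)
    exact Module.Finite.equiv (shiftSrc (Dual.inD A (Dual.HD A K j)) L (-j) (i + j) i (by omega))

/-- Finiteness for all objects with finite cohomology. -/
theorem finite_ex {K : Dual.D A} (hK : ∀ j, Module.Finite A (Dual.HD A K j)) (i : ℤ) :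
    Module.Finite A (Ex K L i) := by
  obtain ⟨E, hv, hE, ⟨e⟩⟩ := id ha
  obtain ⟨T, hT, rfl, h1, h3, hb1, -⟩ := exists_trunc K (b - i + 1)
  haveI := subsingleton_ex_of_GE (c := b - i + 1) (L := L) h3 hv hE e (i := i) (by omega)
  obtain ⟨T', hT', hT2, h1', h3', -, hb2'⟩ := exists_trunc T.obj₁ (a - i)
  haveI := subsingleton_ex_of_LE (c := a - i - 1) (L := L) (K := T'.obj₁) (fun j hj => h1' j (by omega)) hv hE e
    (i := i) (by omega)
  have hf1 : ∀ j, Module.Finite A (Dual.HD A T.obj₁ j) := fun j => by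
    by_cases hj : b - i + 1 ≤ j
    · haveI := h1 j hj; infer_instance
    · haveI := hK j
      exact Module.Finite.equiv (LinearEquiv.ofBijective _ (hb1 j (by omega))).symm
  haveI : Module.Finite A (Ex T'.obj₃ L i) := by
    refine finite_ex_of_bounded hL ha (m := a - i) (m' := max (a - i) (b - i + 1)) (fun j hj => ?_) (fun j => ?_) i
    · rcases hj with hj | hj
      · exact h3' j hj
      · haveI : Subsingleton (Dual.HD A T'.obj₂ j) := by rw [hT2]; exact h1 j (by omega)
        exact (hb2' j (by omega)).2.subsingleton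
    · by_cases hj : a - i ≤ j
      · haveI : Module.Finite A (Dual.HD A T'.obj₂ j) := by rw [hT2]; exact hf1 j
        exact Module.Finite.of_surjective _ (hb2' j hj).2
      · haveI := h3' j (by omega); infer_instance
  haveI : Module.Finite A (T.obj₁ ⟶ L⟦i⟧) := by
    rw [← hT2]
    exact Module.Finite.of_surjective _ (surjective_pre₂ T' hT' (W := L⟦i⟧) inferInstance)
  exact Module.Finite.of_injective _ (injective_pre₁ T hT (W := L⟦i⟧) inferInstance)

end Finite

theorem finite_ex_of_finiteInjDim [IsNoetherianRing A] {K L : Dual.D A} (hK : ∀ j, Module.Finite A (Dual.HD A K j))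
    (hL : ∀ i : ℤ, Module.Finite A (Dual.HD A L i)) (hLi : DRing.HasFiniteInjDim A L) (i : ℤ) :
    Module.Finite A (Ex K L i) := by
  obtain ⟨a, b, h⟩ := hLi
  exact finite_ex hL h hK i

end Groth.Agent.H4DR.Ext
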