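import Groth.Agent.H4DR.Ext.InjAmp
import Groth.Agent.H4DR.PCoh.Modules

/-!
# Dévissage of bounded objects, and finite injective dimension
-/

set_option autoImplicit false
set_option linter.style.haveILetI false

universe u

open CategoryTheory CategoryTheory.Limits Pretriangulated
open Groth.Agent.H16Derived

attribute [local instance] HasDerivedCategory.standard

namespace Groth.Agent.H4DR.Ext

variable {A : Type u} [CommRing A]

section Ind

variable (P : Dual.D A → Prop) (hzero : ∀ K : Dual.D A, (∀ i, Subsingleton (Dual.HD A K i)) → P K)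
  (hiso : ∀ {K L : Dual.D A}, (K ≅ L) → P K → P L)
  (hext : ∀ T : Triangle (Dual.D A), T ∈ distTriang (Dual.D A) → P T.obj₁ → P T.obj₃ → P T.obj₂)

include hzero hiso hext

/-- Induction on the cohomology modules of a bounded object. -/
theorem ind_homology : ∀ (N : ℕ) {m : ℤ} {K : Dual.D A},
    (∀ i, i < m ∨ m + N ≤ i → Subsingleton (Dual.HD A K i)) →
    (∀ i, P ((Dual.inD A (Dual.HD A K i))⟦-i⟧)) → P K
  | 0, m, K, hb, _ => hzero K fun i => hb i (by omega)
  | N + 1, m, K, hb, h => by
    let b : ℤ := m + N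
    let T := (DerivedCategory.TStructure.t.triangleLTGE b).obj K
    have hT : T ∈ distTriang _ := DerivedCategory.TStructure.t.triangleLTGE_distinguished b K
    haveI : DerivedCategory.IsGE T.obj₃ b :=
      inferInstanceAs (DerivedCategory.TStructure.t.IsGE _ b)
    haveI : DerivedCategory.IsLE T.obj₁ (b - 1) :=
      DerivedCategory.TStructure.t.isLE_truncLT_obj K b (b - 1) (by omega)
    have h₁ : ∀ i, b ≤ i → Subsingleton (Dual.HD A T.obj₁ i) := fun i hi =>
      ModuleCat.subsingleton_of_isZero (DerivedCategory.isZero_of_isLE T.obj₁ (b - 1) i (by omega))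
    have h₂ : ∀ i, b < i → Subsingleton (Dual.HD A T.obj₂ i) := fun i hi => hb i (Or.inr (by omega))
    have hlow : ∀ i, i < b → Subsingleton (Dual.HD A T.obj₃ i) := fun i hi =>
      ModuleCat.subsingleton_of_isZero (DerivedCategory.isZero_of_isGE T.obj₃ b i hi)
    have hhigh : ∀ i, b < i → Subsingleton (Dual.HD A T.obj₃ i) := fun i hi =>
      PCoh.subsingleton₃ T hT i (i + 1) rfl (h₁ _ (by omega)) (h₂ i hi)
    haveI : DerivedCategory.IsLE T.obj₃ b := (DerivedCategory.isLE_iff _ b).2 fun i hi =>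
      ModuleCat.isZero_of_iff_subsingleton.2 (hhigh i hi)
    obtain ⟨Y, ⟨e⟩⟩ := DerivedCategory.exists_iso_singleFunctor_obj_of_isGE_of_isLE T.obj₃ b
    let e' : T.obj₃ ≅ DRing.toD ((HomologicalComplex.single (ModuleCat.{u} A) (ComplexShape.up ℤ) b).obj Y) :=
      e ≪≫ (DerivedCategory.singleFunctorIsoCompQ (ModuleCat.{u} A) b).app Y
    let eY : Dual.HD A K b ≃ₗ[A] Y :=
      (LinearEquiv.ofBijective (PCoh.hm b T.mor₂)
        ⟨PCoh.injective₂_of_subsingleton T hT b (h₁ b le_rfl),
          PCoh.surjective₂_of_subsingleton T hT b (b + 1) rfl (h₁ _ (by omega))⟩) ≪≫ₗ PCoh.hEquiv b e' ≪≫ₗ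
        ((DerivedCategory.homologyFunctorFactors (ModuleCat.{u} A) b).app _ ≪≫
          HomologicalComplex.singleObjHomologySelfIso _ _ _).toLinearEquiv
    refine hext T hT (ind_homology N (m := m) (fun i hi => ?_) fun i => ?_) ?_
    · rcases hi with hi | hi
      · exact PCoh.subsingleton₁ T hT (i - 1) i (by omega) (hlow _ (by omega)) (hb i (Or.inl hi))
      · exact h₁ i hi
    · by_cases hi : b ≤ i
      · refine hzero _ fun j => ModuleCat.subsingleton_of_isZero ((DerivedCategory.homologyFunctor _ j).map_isZero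
          ((shiftFunctor (Dual.D A) (-i)).map_isZero ((DerivedCategory.singleFunctor (ModuleCat.{u} A) 0).map_isZero
            (ModuleCat.isZero_of_iff_subsingleton.2 (h₁ i hi)))))
      · refine hiso ((shiftFunctor (Dual.D A) (-i)).mapIso ((DerivedCategory.singleFunctor (ModuleCat.{u} A) 0).mapIso
          (LinearEquiv.ofBijective (PCoh.hm i T.mor₁) ⟨?_, ?_⟩).toModuleIso.symm)) (h i)
        · exact PCoh.injective₁_of_subsingleton T hT (i - 1) i (by omega) (hlow _ (by omega))
        · exact PCoh.surjective₁_of_subsingleton T hT i (hlow i (by omega))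
    · exact hiso ((shiftFunctor (Dual.D A) (-b)).mapIso ((DerivedCategory.singleFunctor (ModuleCat.{u} A) 0).mapIso
        eY.toModuleIso) ≪≫ (PCoh.singleIso Y b).symm ≪≫ e'.symm) (h b)

/-- Induction on the terms of a bounded complex. -/
theorem ind_terms : ∀ (N : ℕ) {m : ℤ} {K : DRing.Cx A},
    (∀ i, i < m ∨ m + N ≤ i → IsZero (K.X i)) →
    (∀ i, P ((Dual.inD A (K.X i))⟦-i⟧)) → P (DRing.toD K)
  | 0, m, K, hb, _ => hzero _ fun i => ModuleCat.subsingleton_of_isZero
      (IsZero.of_iso ((HomologicalComplex.exactAt_iff _ _).2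
        (ShortComplex.exact_of_isZero_X₂ _ (hb i (by omega)))).isZero_homology
        ((DerivedCategory.homologyFunctorFactors (ModuleCat.{u} A) i).app _))
  | N + 1, m, K, hb, h => by
    let b : ℤ := m + N
    have hT := DerivedCategory.triangleOfSES_distinguished (KFlat.Brutal.shortExact K b)
    refine hext _ hT ?_ ?_
    · have hz : ∀ i, i ≠ b → IsZero ((KFlat.Brutal.geq K b).X i) := fun i hi => by
        by_cases hbi : b ≤ i
        · have := KFlat.Brutal.isIso_ι_f K b hbi
          exact (hb i (Or.inr (by omega))).of_iso (asIso ((KFlat.Brutal.ι K b).f i))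
        · exact KFlat.Brutal.isZero_geq K _ (by omega)
      haveI : (KFlat.Brutal.geq K b).IsStrictlyGE b :=
        (CochainComplex.isStrictlyGE_iff _ b).2 fun q hq => hz q (by omega)
      haveI : (KFlat.Brutal.geq K b).IsStrictlyLE b :=
        (CochainComplex.isStrictlyLE_iff _ b).2 fun q hq => hz q (by omega)
      obtain ⟨Y, ⟨e⟩⟩ := CochainComplex.exists_iso_single (KFlat.Brutal.geq K b) b
      have := KFlat.Brutal.isIso_ι_f K b (le_refl b)
      let eY : K.X b ≅ Y := (asIso ((KFlat.Brutal.ι K b).f b)).symm ≪≫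
        (HomologicalComplex.eval _ _ b).mapIso e ≪≫
        HomologicalComplex.singleObjXSelf (ComplexShape.up ℤ) b Y
      exact hiso ((shiftFunctor (Dual.D A) (-b)).mapIso ((DerivedCategory.singleFunctor (ModuleCat.{u} A) 0).mapIso
        eY) ≪≫ (PCoh.singleIso Y b).symm ≪≫ (DerivedCategory.Q.mapIso e).symm) (h b)
    · refine ind_terms N (m := m) (fun i hi => ?_) fun i => ?_
      · by_cases hbi : b ≤ i
        · exact KFlat.Brutal.isZero_cokernel K _ hbi
        · have := KFlat.Brutal.isIso_cokernel_π K b (show i < b by omega)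
          exact (hb i (Or.inl (by omega))).of_iso (asIso ((cokernel.π (KFlat.Brutal.ι K b)).f i)).symm
      · by_cases hi : i < b
        · have := KFlat.Brutal.isIso_cokernel_π K b hi
          exact hiso ((shiftFunctor (Dual.D A) (-i)).mapIso ((DerivedCategory.singleFunctor (ModuleCat.{u} A) 0).mapIso
            (asIso ((cokernel.π (KFlat.Brutal.ι K b)).f i)))) (h i)
        · exact hzero _ fun j => ModuleCat.subsingleton_of_isZero ((DerivedCategory.homologyFunctor _ j).map_isZero
            ((shiftFunctor (Dual.D A) (-i)).map_isZero ((DerivedCategory.singleFunctor (ModuleCat.{u} A) 0).map_isZero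
              (KFlat.Brutal.isZero_cokernel K _ (show b ≤ i by omega)))))

end Ind

/-- The vanishing form of finite injective dimension. -/
def FID (K : Dual.D A) : Prop := ∃ a b : ℤ, ∀ (N : Type u) [AddCommGroup N] [Module A N] (i : ℤ),
  (i < a ∨ b < i) → Subsingleton (Ex (Dual.inD A N) K i)

lemma fid_iff {K : Dual.D A} : FID K ↔ DRing.HasFiniteInjDim A K :=
  ⟨fun ⟨a, b, h⟩ => ⟨a, b, injAmp_of_vanish K a b fun I i hi => h (A ⧸ I) i hi⟩,
    fun ⟨a, b, h⟩ => ⟨a, b, fun N _ _ _ hi => subsingleton_inD_of_injAmp h N hi⟩⟩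

lemma FID.of_iso {K L : Dual.D A} (e : K ≅ L) (h : FID K) : FID L := by
  obtain ⟨a, b, h⟩ := h
  exact ⟨a, b, fun N _ _ i hi => haveI := h N i hi
    (postIso (Dual.inD A N) ((shiftFunctor (Dual.D A) i).mapIso e.symm)).injective.subsingleton⟩

lemma FID.shift {K : Dual.D A} (n : ℤ) (h : FID K) : FID (K⟦n⟧) := by
  obtain ⟨a, b, h⟩ := h
  exact ⟨a - n, b - n, fun N _ _ i hi => haveI := h N (n + i) (by omega)
    (addLin (Dual.inD A N) K n i (n + i) rfl).injective.subsingleton⟩

lemma fid_of_acyclic {K : Dual.D A} (h : ∀ i, Subsingleton (Dual.HD A K i)) : FID K := by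
  have hz : IsZero K := by
    haveI : DerivedCategory.IsGE K 0 :=
      (DerivedCategory.isGE_iff K 0).2 fun i _ => ModuleCat.isZero_of_iff_subsingleton.2 (h i)
    haveI : DerivedCategory.IsLE K (-1) :=
      (DerivedCategory.isLE_iff K (-1)).2 fun i _ => ModuleCat.isZero_of_iff_subsingleton.2 (h i)
    exact DerivedCategory.TStructure.t.isZero K (-1) 0 (by omega)
  exact ⟨0, 0, fun N _ _ i _ => ⟨fun f g => ((shiftFunctor (Dual.D A) i).map_isZero hz).eq_of_tgt f g⟩⟩

lemma FID.ext (T : Triangle (Dual.D A)) (hT : T ∈ distTriang (Dual.D A)) (h₁ : FID T.obj₁) (h₃ : FID T.obj₃) :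
    FID T.obj₂ := by
  obtain ⟨a, b, h₁⟩ := h₁
  obtain ⟨a', b', h₃⟩ := h₃
  exact ⟨min a a', max b b', fun N _ _ i hi => subsingleton_post₂ _ (Triangle.shift_distinguished T hT i)
    (h₁ N i (by omega)) (h₃ N i (by omega))⟩

theorem hasFiniteInjDim_of_homology {K : Dual.D A}
    (hb : ∃ a b : ℤ, ∀ i : ℤ, (i < a ∨ b < i) → Subsingleton (Dual.HD A K i))
    (h : ∀ i : ℤ, DRing.HasFiniteInjDim A (Dual.inD A (Dual.HD A K i))) : DRing.HasFiniteInjDim A K := by
  obtain ⟨a, b, hb⟩ := hb
  exact fid_iff.1 (ind_homology FID (fun _ hK => fid_of_acyclic hK) (fun e hK => hK.of_iso e)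
    (fun T hT => FID.ext T hT) (b + 1 - a).toNat (m := a) (fun i hi => hb i (by omega))
    fun i => (fid_iff.2 (h i)).shift (-i))

theorem hasFiniteInjDim_of_terms {K : DRing.Cx A} {a b : ℤ} (hb : DRing.VanishesOutside K a b)
    (h : ∀ i : ℤ, DRing.HasFiniteInjDim A (Dual.inD A (K.X i))) : DRing.HasFiniteInjDim A (DRing.toD K) :=
  fid_iff.1 (ind_terms FID (fun _ hK => fid_of_acyclic hK) (fun e hK => hK.of_iso e)
    (fun T hT => FID.ext T hT) (b + 1 - a).toNat (m := a) (fun i hi => hb i (by omega))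
    fun i => (fid_iff.2 (h i)).shift (-i))

end Groth.Agent.H4DR.Ext
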