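import Groth.Agent.H4DR.Hom.Basic
import Mathlib.Algebra.Homology.DerivedCategory.SingleTriangle
import Mathlib.Algebra.Homology.DerivedCategory.Linear
import Mathlib.RingTheory.Noetherian.Basic

/-!
# `Hom_{D(A)}(-, K⟦i⟧)` as a cohomological functor with values in `A`-modules
-/

set_option autoImplicit false
set_option linter.style.haveILetI false

universe u

open CategoryTheory CategoryTheory.Limits Pretriangulated

attribute [local instance] HasDerivedCategory.standard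

namespace Groth.Agent.H4DR.Ext

variable {A : Type u} [CommRing A]

/-- `Hom(K, L[i])`. -/
abbrev Ex (K L : Dual.D A) (i : ℤ) : Type (u + 1) := K ⟶ L⟦i⟧

/-- Precomposition. -/
noncomputable abbrev pre {X Y : Dual.D A} (f : X ⟶ Y) (W : Dual.D A) : (Y ⟶ W) →ₗ[A] (X ⟶ W) :=
  Linear.leftComp A W f

/-- Postcomposition. -/
noncomputable abbrev post (X : Dual.D A) {V W : Dual.D A} (g : V ⟶ W) : (X ⟶ V) →ₗ[A] (X ⟶ W) :=
  Linear.rightComp A X g

/-- Shifting morphisms. -/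
noncomputable def shiftLin (X Y : Dual.D A) (n : ℤ) : (X ⟶ Y) ≃ₗ[A] (X⟦n⟧ ⟶ Y⟦n⟧) :=
  LinearEquiv.ofBijective ((shiftFunctor (Dual.D A) n).mapLinearMap A)
    ⟨fun _ _ h => (shiftFunctor (Dual.D A) n).map_injective h,
      fun g => ⟨(shiftFunctor (Dual.D A) n).preimage g, (shiftFunctor (Dual.D A) n).map_preimage g⟩⟩

/-- Precomposition with an isomorphism. -/
noncomputable def preIso {X Y : Dual.D A} (e : X ≅ Y) (W : Dual.D A) : (Y ⟶ W) ≃ₗ[A] (X ⟶ W) :=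
  Linear.homCongr A e.symm (Iso.refl W)

/-- Postcomposition with an isomorphism. -/
noncomputable def postIso (X : Dual.D A) {V W : Dual.D A} (e : V ≅ W) : (X ⟶ V) ≃ₗ[A] (X ⟶ W) :=
  Linear.homCongr A (Iso.refl X) e

/-- `W⟦i⟧⟦j⟧ = W⟦i+j⟧` on morphisms. -/
noncomputable def addLin (X W : Dual.D A) (i j k : ℤ) (h : i + j = k) : (X ⟶ W⟦i⟧⟦j⟧) ≃ₗ[A] (X ⟶ W⟦k⟧) :=
  postIso X ((shiftFunctorAdd' (Dual.D A) i j k h).app W).symm

/-- `Hom(X⟦n⟧, W⟦k⟧) = Hom(X, W⟦k - n⟧)`. -/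
noncomputable def shiftSrc (X W : Dual.D A) (n i k : ℤ) (h : i + n = k) : Ex X W i ≃ₗ[A] (X⟦n⟧ ⟶ W⟦k⟧) :=
  (shiftLin X (W⟦i⟧) n).trans (addLin (X⟦n⟧) W i n k h)

lemma shiftSrc_apply (X W : Dual.D A) (n i k : ℤ) (h : i + n = k) (f : X ⟶ W⟦i⟧) :
    shiftSrc X W n i k h f = f⟦n⟧' ≫ (shiftFunctorAdd' (Dual.D A) i n k h).inv.app W := by
  simp [shiftSrc, shiftLin, addLin, postIso, Linear.homCongr_apply]
  all_goals rfl

lemma shiftSrc_pre {X Y : Dual.D A} (m : X ⟶ Y) (W : Dual.D A) (n i k : ℤ) (h : i + n = k) (f : Y ⟶ W⟦i⟧) :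
    shiftSrc X W n i k h (m ≫ f) = m⟦n⟧' ≫ shiftSrc Y W n i k h f := by
  rw [shiftSrc_apply, shiftSrc_apply, Functor.map_comp, Category.assoc]

section Triangle

variable (T : Triangle (Dual.D A)) (hT : T ∈ distTriang (Dual.D A))
include hT

theorem exact_pre₂ (W : Dual.D A) : Function.Exact (pre T.mor₂ W) (pre T.mor₁ W) := fun f => by
  refine ⟨fun hf => ?_, ?_⟩
  · obtain ⟨g, hg⟩ := T.yoneda_exact₂ hT f hf
    exact ⟨g, hg.symm⟩
  · rintro ⟨g, rfl⟩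
    show T.mor₁ ≫ T.mor₂ ≫ g = 0
    rw [comp_distTriang_mor_zero₁₂_assoc _ hT, zero_comp]

theorem exact_post₂ (X : Dual.D A) : Function.Exact (post X T.mor₁) (post X T.mor₂) := fun f => by
  refine ⟨fun hf => ?_, ?_⟩
  · obtain ⟨g, hg⟩ := T.coyoneda_exact₂ hT f hf
    exact ⟨g, hg.symm⟩
  · rintro ⟨g, rfl⟩
    show (g ≫ T.mor₁) ≫ T.mor₂ = 0
    rw [Category.assoc, comp_distTriang_mor_zero₁₂ _ hT, comp_zero]

theorem subsingleton_pre₂ {W : Dual.D A} (h₁ : Subsingleton (T.obj₁ ⟶ W)) (h₃ : Subsingleton (T.obj₃ ⟶ W)) :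
    Subsingleton (T.obj₂ ⟶ W) := subsingleton_of_forall_eq 0 fun f => by
  obtain ⟨g, hg⟩ := (exact_pre₂ T hT W f).1 (Subsingleton.elim _ _)
  rw [← hg, Subsingleton.elim g 0, map_zero]

theorem finite_pre₂ [IsNoetherianRing A] {W : Dual.D A} (h₁ : Module.Finite A (T.obj₁ ⟶ W))
    (h₃ : Module.Finite A (T.obj₃ ⟶ W)) : Module.Finite A (T.obj₂ ⟶ W) := by
  haveI := isNoetherian_of_isNoetherianRing_of_finite A (T.obj₁ ⟶ W)
  haveI := isNoetherian_of_isNoetherianRing_of_finite A (T.obj₃ ⟶ W)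
  haveI := isNoetherian_of_range_eq_ker (pre T.mor₂ W) (pre T.mor₁ W)
    (LinearMap.exact_iff.1 (exact_pre₂ T hT W)).symm
  exact Module.IsNoetherian.finite A _

theorem subsingleton_post₂ {X : Dual.D A} (h₁ : Subsingleton (X ⟶ T.obj₁)) (h₃ : Subsingleton (X ⟶ T.obj₃)) :
    Subsingleton (X ⟶ T.obj₂) := subsingleton_of_forall_eq 0 fun f => by
  obtain ⟨g, hg⟩ := (exact_post₂ T hT X f).1 (Subsingleton.elim _ _)
  rw [← hg, Subsingleton.elim g 0, map_zero]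

theorem surjective_pre₁_of_injective {W : Dual.D A} {i j : ℤ} (h : i + 1 = j)
    (h₃ : Function.Injective (pre T.mor₂ (W⟦j⟧))) :
    Function.Surjective (pre T.mor₁ (W⟦i⟧)) := fun f => by
  obtain ⟨g, hg⟩ := Triangle.yoneda_exact₃ _ (rot_of_distTriang _ hT) ((shiftSrc T.obj₁ W 1 i j h) f)
    (h₃ ((show T.mor₂ ≫ (T.mor₃ ≫ (shiftSrc T.obj₁ W 1 i j h) f) = 0 by
      rw [comp_distTriang_mor_zero₂₃_assoc _ hT, zero_comp]).trans (map_zero (pre T.mor₂ (W⟦j⟧))).symm))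
  refine ⟨-((shiftSrc T.obj₂ W 1 i j h).symm g), ?_⟩
  refine (shiftSrc T.obj₁ W 1 i j h).injective ?_
  rw [map_neg, map_neg, hg]
  show -(shiftSrc T.obj₁ W 1 i j h (T.mor₁ ≫ _)) = (-(T.mor₁⟦(1 : ℤ)⟧')) ≫ g
  rw [shiftSrc_pre]
  exact (congrArg (fun t => -(T.mor₁⟦(1 : ℤ)⟧' ≫ t)) ((shiftSrc T.obj₂ W 1 i j h).apply_symm_apply g)).trans
    (Preadditive.neg_comp _ _).symm

omit hT in
/-- The connecting map `Hom(T₁, W⟦i⟧) → Hom(T₃, W⟦j⟧)`. -/
noncomputable def conn (W : Dual.D A) (i j : ℤ) (h : i + 1 = j) : Ex T.obj₁ W i →ₗ[A] Ex T.obj₃ W j :=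
  pre T.mor₃ (W⟦j⟧) ∘ₗ (shiftSrc T.obj₁ W 1 i j h).toLinearMap

theorem ker_conn_le {W : Dual.D A} {i j : ℤ} (h : i + 1 = j) :
    LinearMap.ker (conn T W i j h) ≤ LinearMap.range (pre T.mor₁ (W⟦i⟧)) := fun f hf => by
  obtain ⟨g, hg⟩ := Triangle.yoneda_exact₃ _ (rot_of_distTriang _ hT) ((shiftSrc T.obj₁ W 1 i j h) f)
    (show T.mor₃ ≫ _ = 0 from hf)
  refine ⟨-((shiftSrc T.obj₂ W 1 i j h).symm g), ?_⟩
  refine (shiftSrc T.obj₁ W 1 i j h).injective ?_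
  rw [map_neg, map_neg, hg]
  show -(shiftSrc T.obj₁ W 1 i j h (T.mor₁ ≫ _)) = (-(T.mor₁⟦(1 : ℤ)⟧')) ≫ g
  rw [shiftSrc_pre]
  exact (congrArg (fun t => -(T.mor₁⟦(1 : ℤ)⟧' ≫ t)) ((shiftSrc T.obj₂ W 1 i j h).apply_symm_apply g)).trans
    (Preadditive.neg_comp _ _).symm

theorem surjective_pre₁ {W : Dual.D A} {i j : ℤ} (h : i + 1 = j) (h₃ : Subsingleton (Ex T.obj₃ W j)) :
    Function.Surjective (pre T.mor₁ (W⟦i⟧)) :=
  surjective_pre₁_of_injective T hT h (Function.injective_of_subsingleton _)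

theorem injective_pre₁ {W : Dual.D A} (h₃ : Subsingleton (T.obj₃ ⟶ W)) : Function.Injective (pre T.mor₁ W) :=
  (injective_iff_map_eq_zero _).2 fun f hf => by
    obtain ⟨g, hg⟩ := (exact_pre₂ T hT W f).1 hf
    rw [← hg, Subsingleton.elim g 0, map_zero]

theorem surjective_pre₂ {W : Dual.D A} (h₁ : Subsingleton (T.obj₁ ⟶ W)) : Function.Surjective (pre T.mor₂ W) :=
  fun f => (exact_pre₂ T hT W f).1 (Subsingleton.elim _ _)

theorem injective_pre₂ {W : Dual.D A} {i j : ℤ} (h : i + 1 = j) (h₁ : Subsingleton (Ex T.obj₁ W i)) :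
    Function.Injective (pre T.mor₂ (W⟦j⟧)) :=
  injective_pre₁ T.rotate (rot_of_distTriang _ hT) (shiftSrc T.obj₁ W 1 i j h).symm.injective.subsingleton

theorem subsingleton_pre₁ {W : Dual.D A} {i j : ℤ} (h : i + 1 = j) (h₂ : Subsingleton (Ex T.obj₂ W i))
    (h₃ : Subsingleton (Ex T.obj₃ W j)) : Subsingleton (Ex T.obj₁ W i) :=
  (surjective_pre₁ T hT h h₃).subsingleton

theorem subsingleton_pre₃ {W : Dual.D A} {i j : ℤ} (h : i + 1 = j) (h₁ : Subsingleton (Ex T.obj₁ W i))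
    (h₂ : Subsingleton (Ex T.obj₂ W j)) : Subsingleton (Ex T.obj₃ W j) :=
  (injective_pre₂ T hT h h₁).subsingleton

end Triangle

/-- The map induced on modules. -/
noncomputable abbrev inM {L M : ModuleCat.{u} A} (f : L →ₗ[A] M) :
    (DerivedCategory.singleFunctor (ModuleCat.{u} A) 0).obj L ⟶
      (DerivedCategory.singleFunctor (ModuleCat.{u} A) 0).obj M :=
  (DerivedCategory.singleFunctor (ModuleCat.{u} A) 0).map (ModuleCat.ofHom f)

/-- A short exact sequence of modules gives a distinguished triangle. -/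
theorem exists_triangle {L M N : Type u} [AddCommGroup L] [Module A L] [AddCommGroup M] [Module A M]
    [AddCommGroup N] [Module A N] (f : L →ₗ[A] M) (g : M →ₗ[A] N) (hf : Function.Injective f)
    (hg : Function.Surjective g) (hfg : Function.Exact f g) :
    ∃ δ, Triangle.mk (inM (L := ModuleCat.of A L) (M := ModuleCat.of A M) f)
      (inM (L := ModuleCat.of A M) (M := ModuleCat.of A N) g) δ ∈ distTriang (Dual.D A) := by
  let S : ShortComplex (ModuleCat.{u} A) := ShortComplex.mk (ModuleCat.ofHom f) (ModuleCat.ofHom g)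
    (ModuleCat.hom_ext (LinearMap.ext fun x => hfg.apply_apply_eq_zero x))
  haveI : Mono S.f := (ModuleCat.mono_iff_injective _).2 hf
  haveI : Epi S.g := (ModuleCat.epi_iff_surjective _).2 hg
  have hS : S.ShortExact :=
    { exact := (ShortComplex.ShortExact.moduleCat_exact_iff_function_exact S).2 hfg }
  exact ⟨_, hS.singleTriangle_distinguished⟩

lemma inM_smul_id (M : ModuleCat.{u} A) (a : A) :
    (DerivedCategory.singleFunctor (ModuleCat.{u} A) 0).map (a • 𝟙 M) = a • 𝟙 _ := by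
  rw [Functor.map_smul, CategoryTheory.Functor.map_id]

end Groth.Agent.H4DR.Ext
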